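import Mathlib
import Cfsg.Prelude.Def_OddOrderLocal
import Cfsg.Agent.Lib.Base.Fitting

/-!
# Groups in which every element centraliser is a TI-subset

The hypothesis passes to subgroups. If the centre is non-trivial then every centraliser is normal,
each element commutes with its conjugates and the group is nilpotent; hence centralisers of
non-identity elements are nilpotent.
-/

set_option autoImplicit false

namespace CfsgLib.Involutions.TICent

open Subgroup

variable {G : Type*} [Group G]

/-- Every element centraliser is a TI-subset. -/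
def CTI (G : Type*) [Group G] : Prop :=
  ∀ x : G, Cfsg.IsTISubset (centralizer ({x} : Set G) : Set G)

theorem mem_cent {x y : G} : y ∈ centralizer ({x} : Set G) ↔ Commute x y :=
  mem_centralizer_singleton_iff.trans ⟨fun h => h.symm, fun h => h.symm⟩

/-- The basic consequence: two nontrivial elements of a centraliser conjugate by `g`. -/
theorem CTI.mem_normalizer (h : CTI G) {x w g : G} (hw : w ∈ centralizer ({x} : Set G)) (hw1 : w ≠ 1)
    (hgw : g * w * g⁻¹ ∈ centralizer ({x} : Set G)) :
    g ∈ normalizer ((centralizer ({x} : Set G) : Subgroup G) : Set G) :=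
  by_contra fun hg => hw1 (h x g hg w hw hgw)

theorem CTI.of_injective {H : Type*} [Group H] (h : CTI G) (f : H →* G)
    (hf : Function.Injective f) : CTI H := by
  intro x g hg w hw hgw
  have hmem : ∀ y : H, y ∈ centralizer ({x} : Set H) ↔ f y ∈ centralizer ({f x} : Set G) := by
    intro y
    rw [mem_cent, mem_cent, commute_iff_eq, commute_iff_eq, ← map_mul, ← map_mul]
    exact hf.eq_iff.symm
  by_contra hw1
  refine hg ?_
  have hn := h.mem_normalizer (g := f g) ((hmem w).1 hw) (fun e => hw1 (hf (by rw [e, map_one])))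
    (by rw [← map_inv, ← map_mul, ← map_mul]; exact (hmem _).1 hgw)
  rw [Subgroup.mem_normalizer_iff]
  intro y
  rw [hmem, hmem, map_mul, map_mul, map_inv]
  exact (Subgroup.mem_normalizer_iff.1 hn) (f y)

theorem CTI.subgroup (h : CTI G) (H : Subgroup G) : CTI H :=
  h.of_injective H.subtype H.subtype_injective

/-- A centraliser containing a nontrivial normal subgroup is normal. -/
theorem CTI.normal_of_le (h : CTI G) {x : G} {Z : Subgroup G} [hZ : Z.Normal] (hne : Z ≠ ⊥)
    (hle : Z ≤ centralizer ({x} : Set G)) : (centralizer ({x} : Set G)).Normal := by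
  obtain ⟨w, hwZ, hw1⟩ := (bot_or_exists_ne_one Z).resolve_left hne
  rw [← normalizer_eq_top_iff, eq_top_iff]
  exact fun g _ => h.mem_normalizer (hle hwZ) hw1 (hle (hZ.conj_mem w hwZ g))

theorem CTI.normal_centralizer (h : CTI G) (hZ : center G ≠ ⊥) (x : G) :
    (centralizer ({x} : Set G)).Normal :=
  h.normal_of_le hZ (Subgroup.center_le_centralizer _)

theorem CTI.commute_conj (h : CTI G) (hZ : center G ≠ ⊥) (x g : G) : Commute x (g * x * g⁻¹) :=
  mem_cent.1 ((h.normal_centralizer hZ x).conj_mem x (mem_cent.2 (Commute.refl x)) g)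

theorem CTI.isNilpotent_of_center [Finite G] (h : CTI G) (hZ : center G ≠ ⊥) :
    Group.IsNilpotent G := by
  rw [← CfsgLib.Base.fittingSubgroup_eq_top_iff, eq_top_iff]
  intro x _
  haveI : IsMulCommutative (normalClosure ({x} : Set G)) := by
    refine isMulCommutative_closure fun a ha b hb => ?_
    rw [Group.mem_conjugatesOfSet_iff] at ha hb
    obtain ⟨a', ha', ha⟩ := ha
    obtain ⟨b', hb', hb⟩ := hb
    obtain rfl : a' = x := ha'
    obtain rfl : b' = a' := hb'
    obtain ⟨c, rfl⟩ := isConj_iff.1 ha
    obtain ⟨d, rfl⟩ := isConj_iff.1 hb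
    have := (h.commute_conj hZ b' (c⁻¹ * d)).map (MulAut.conj c)
    simpa [mul_assoc] using this.eq
  exact CfsgLib.Base.le_fittingSubgroup_of_isMulCommutative
    (subset_normalClosure (Set.mem_singleton x))

theorem CTI.isNilpotent_centralizer [Finite G] (h : CTI G) {x : G} (hx : x ≠ 1) :
    Group.IsNilpotent (centralizer ({x} : Set G)) := by
  refine (h.subgroup _).isNilpotent_of_center fun hb => hx ?_
  have hxm : (⟨x, mem_cent.2 (Commute.refl x)⟩ : centralizer ({x} : Set G)) ∈
      center (centralizer ({x} : Set G)) :=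
    mem_center_iff.2 fun y => Subtype.ext (mem_cent.1 y.2).eq.symm
  rw [hb, mem_bot] at hxm
  exact congrArg Subtype.val hxm

theorem CTI.le_fitting [Finite G] (h : CTI G) {x : G} (hx : x ≠ 1) {Z : Subgroup G} [Z.Normal]
    (hne : Z ≠ ⊥) (hle : Z ≤ centralizer ({x} : Set G)) :
    centralizer ({x} : Set G) ≤ Cfsg.fittingSubgroup G := by
  haveI := h.normal_of_le hne hle
  exact CfsgLib.Base.le_fittingSubgroup (h.isNilpotent_centralizer hx)

end CfsgLib.Involutions.TICent
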