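import Cfsg.Agent.Lib.Involutions.TICent.Basic
import Cfsg.Agent.Lib.CNGroups.Structure
import Cfsg.Agent.Lib.Base.FPF
import Cfsg.Agent.Lib.PGroups.Basic

/-!
# Solvable groups with TI centralisers

If such a group is not nilpotent, the Fitting subgroup contains the centraliser of each of its
non-identity elements, so it is a Frobenius kernel; a complement has non-trivial centre, so it is
nilpotent, and its Sylow 2-subgroup, if quaternion, has order eight.
-/

set_option autoImplicit false

namespace CfsgLib.Involutions.TICent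

open Subgroup

variable {G : Type*} [Group G] [Finite G]

theorem le_two_of_quaternion {m : ℕ} [NeZero m] (h : CTI (QuaternionGroup m)) : m ≤ 2 := by
  have hm : ((m : ℕ) : ZMod (2 * m)) ≠ 0 := by
    rw [Ne, ZMod.natCast_eq_zero_iff]
    intro hd
    have := Nat.le_of_dvd (Nat.pos_of_ne_zero (NeZero.ne m)) hd
    have := NeZero.ne m
    omega
  have h2 : 2 * ((m : ℕ) : ZMod (2 * m)) = 0 := by
    have := ZMod.natCast_self (2 * m)
    push_cast at this
    exact this
  have hz : center (QuaternionGroup m) ≠ ⊥ := by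
    intro hb
    have hmem : QuaternionGroup.a (n := m) ((m : ℕ) : ZMod (2 * m)) ∈ center (QuaternionGroup m) := by
      rw [mem_center_iff]
      rintro (i | i)
      · rw [QuaternionGroup.a_mul_a, QuaternionGroup.a_mul_a, add_comm]
      · rw [QuaternionGroup.xa_mul_a, QuaternionGroup.a_mul_xa]
        congr 1
        linear_combination h2
    rw [hb, mem_bot, QuaternionGroup.one_def, QuaternionGroup.a.injEq] at hmem
    exact hm hmem
  have hc := (h.commute_conj hz (QuaternionGroup.xa 0) (QuaternionGroup.a 1)).eq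
  have hinv : (QuaternionGroup.a (1 : ZMod (2 * m)))⁻¹ = QuaternionGroup.a (-1) := rfl
  rw [hinv, QuaternionGroup.a_mul_xa, QuaternionGroup.xa_mul_a, QuaternionGroup.xa_mul_xa,
    QuaternionGroup.xa_mul_xa, QuaternionGroup.a.injEq] at hc
  have h4 : ((4 : ℕ) : ZMod (2 * m)) = 0 := by
    push_cast
    linear_combination (-1 : ZMod (2 * m)) * hc
  rw [ZMod.natCast_eq_zero_iff] at h4
  have := Nat.le_of_dvd (by norm_num) h4
  omega

/-- A solvable group with TI centralisers is nilpotent or Frobenius with the stated complement. -/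
theorem solvable_case (h : CTI G) [Group.IsSolvable G] (hnn : ¬ Group.IsNilpotent G) :
    ∃ H : Subgroup G, Cfsg.IsFrobeniusComplement H ∧
      (IsCyclic H ∨ ∃ m : ℕ, Odd m ∧ Nonempty (H ≃* Multiplicative (ZMod m) × QuaternionGroup 2)) := by
  classical
  haveI : Nontrivial G := by
    by_contra hn
    haveI := not_nontrivial_iff_subsingleton.1 hn
    exact hnn inferInstance
  set F := Cfsg.fittingSubgroup G with hFdef
  haveI : F.Normal := CfsgLib.Base.fittingSubgroup_normal' G
  haveI : Group.IsNilpotent F := CfsgLib.Base.isNilpotent_fittingSubgroup G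
  have hFne : F ≠ ⊥ := CfsgLib.Base.fittingSubgroup_ne_bot
  have hFt : F ≠ ⊤ := fun e => hnn (CfsgLib.Base.fittingSubgroup_eq_top_iff.1 e)
  set Z := (center F).map F.subtype with hZdef
  haveI : Z.Normal := inferInstance
  have hZne : Z ≠ ⊥ := by
    rw [hZdef, Ne, map_eq_bot_iff_of_injective _ F.subtype_injective]
    haveI : Nontrivial F := (nontrivial_iff_ne_bot F).2 hFne
    exact Group.IsNilpotent.center_ne_bot (G := ↥F)
  have hcent : ∀ u ∈ F, u ≠ 1 → centralizer ({u} : Set G) ≤ F := by
    intro u hu hu1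
    refine h.le_fitting hu1 hZne ?_
    rintro _ ⟨c, hc, rfl⟩
    exact mem_cent.2 (congrArg Subtype.val (mem_center_iff.1 hc ⟨u, hu⟩) :)
  have hcop : (Nat.card F).Coprime F.index := by
    refine Nat.coprime_of_dvd' fun p hp hpF hpi => ?_
    exfalso
    haveI := Fact.mk hp
    obtain ⟨x, hx⟩ := exists_prime_orderOf_dvd_card' p hpF
    obtain ⟨S, hS⟩ := (IsPGroup.of_card (G := zpowers (x : G)) (n := 1)
      (by rw [Nat.card_zpowers, Subgroup.orderOf_coe, hx, pow_one])).exists_le_sylow
    have hne : F.subgroupOf (S : Subgroup G) ≠ ⊥ := by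
      intro e
      have hm : (⟨(x : G), hS (mem_zpowers _)⟩ : (S : Subgroup G)) ∈ F.subgroupOf (S : Subgroup G) := x.2
      rw [e, mem_bot] at hm
      have hx1 : (x : G) = 1 := congrArg Subtype.val hm
      rw [← Subgroup.orderOf_coe, hx1, orderOf_one] at hx
      exact hp.ne_one hx.symm
    obtain ⟨u, hu, hu1⟩ := (bot_or_exists_ne_one _).resolve_left
      (PGroups.inf_center_ne_bot S.isPGroup' hne)
    have hSF : (S : Subgroup G) ≤ F := fun s hs =>
      hcent (u : G) hu.1 (fun e => hu1 (Subtype.ext e))
        (mem_cent.2 (congrArg Subtype.val (mem_center_iff.1 hu.2 ⟨s, hs⟩)).symm)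
    exact S.not_dvd_index (hpi.trans (index_dvd_of_le hSF))
  obtain ⟨E, hE⟩ := exists_right_complement'_of_coprime hcop
  have hfpf : ∀ e ∈ E, e ≠ 1 → F ⊓ centralizer ({e} : Set G) = ⊥ := by
    intro e he he1
    rw [eq_bot_iff_forall]
    rintro f ⟨hf, hfe⟩
    by_contra hf1
    have heF : e ∈ F := hcent f hf hf1 (mem_cent.2 (mem_cent.1 hfe).symm)
    exact he1 (Subgroup.disjoint_def.1 hE.disjoint heF he)
  have hEne : E ≠ ⊥ := by
    rintro rfl
    exact hFt (isComplement'_bot_right.1 hE)
  have hF : Base.IsFPF E F := ⟨by rw [normalizer_eq_top]; exact le_top, hfpf⟩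
  haveI : Group.IsNilpotent E := (h.subgroup E).isNilpotent_of_center (hF.center_ne_bot hFne hEne)
  refine ⟨E, CNGroups.isFrobeniusComplement_of_fpf hE hFne hEne hfpf, ?_⟩
  haveI := Fact.mk Nat.prime_two
  obtain ⟨Q⟩ : Nonempty (Sylow 2 E) := inferInstance
  rcases hF.isCyclic_or_quaternion hFne (Q : Subgroup E) Q.isPGroup' with hQ | ⟨-, n, hn, ⟨eQ⟩⟩
  · left
    haveI : IsZGroup E := ⟨fun r hr R => by
      haveI := Fact.mk hr
      rcases hF.isCyclic_or_quaternion hFne (R : Subgroup E) R.isPGroup' with hc | ⟨rfl, -, -, -⟩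
      · exact hc
      · haveI := hQ
        exact isCyclic_of_surjective _ (Q.equiv R).surjective⟩
    exact inferInstance
  right
  have hn1 : n = 1 := by
    have h2 : 2 ^ n ≤ 2 ^ 1 := le_two_of_quaternion
      (((h.subgroup E).subgroup (Q : Subgroup E)).of_injective eQ.symm.toMonoidHom eQ.symm.injective)
    have := (Nat.pow_le_pow_iff_right (show 1 < 2 by norm_num)).1 h2
    omega
  subst hn1
  haveI : (Q : Subgroup E).Normal :=
    Q.normal_of_normalizerCondition Group.normalizerCondition_of_isNilpotent
  obtain ⟨C, hC⟩ := exists_right_complement'_of_coprime (N := (Q : Subgroup E)) Q.card_coprime_index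
  have hCi : Nat.card C = (Q : Subgroup E).index := hC.symm.index_eq_card.symm
  have hCodd : Odd (Nat.card C) := by
    rw [← Nat.not_even_iff_odd, even_iff_two_dvd, hCi]
    exact Q.not_dvd_index
  haveI : IsZGroup C := ⟨fun r hr R => by
    haveI := Fact.mk hr
    rcases hF.isCyclic_or_quaternion hFne _ (R.isPGroup'.map C.subtype) with hc | ⟨rfl, -, -, -⟩
    · haveI := hc
      exact isCyclic_of_surjective _
        ((R : Subgroup C).equivMapOfInjective _ C.subtype_injective).symm.surjective
    · have hbot : (R : Subgroup C) = ⊥ := by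
        refine Subgroup.eq_bot_of_card_eq _ ?_
        rw [R.card_eq_multiplicity, Nat.factorization_eq_zero_of_not_dvd, pow_zero]
        rwa [← even_iff_two_dvd, Nat.not_even_iff_odd]
      show IsCyclic (R : Subgroup C)
      rw [hbot]
      infer_instance⟩
  haveI : IsCyclic C := inferInstance
  refine ⟨Nat.card C, hCodd, ?_⟩
  let f : C × (Q : Subgroup E) →* E :=
    MonoidHom.noncommCoprod C.subtype (Q : Subgroup E).subtype fun c q => by
      refine CfsgLib.CNGroups.commute_of_coprime (G := E) (H := ⊤) ?_ (mem_top _) (mem_top _) ?_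
      · exact (Group.isNilpotent_congr Subgroup.topEquiv).2 inferInstance
      · show (orderOf (c : E)).Coprime (orderOf (q : E))
        refine Nat.Coprime.coprime_dvd_left (C.orderOf_dvd_natCard c.2)
          (Nat.Coprime.coprime_dvd_right ((Q : Subgroup E).orderOf_dvd_natCard q.2) ?_)
        rw [hCi]
        exact Q.card_coprime_index.symm
  have hf : Function.Bijective f := by
    have := hC.symm
    exact this
  let e0 : C ≃* Multiplicative (ZMod (Nat.card C)) :=
    (zmodMulEquivOfGenerator (Classical.choose_spec (IsCyclic.exists_generator (α := C))) rfl).symm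
  exact ⟨(MulEquiv.ofBijective f hf).symm.trans (MulEquiv.prodCongr e0 (eQ.trans (MulEquiv.refl _)))⟩

end CfsgLib.Involutions.TICent
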