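import Cfsg.Agent.Lib.Involutions.TICent.Basic
import Cfsg.Agent.Lib.Involutions.StrongEmbCosets
import Cfsg.Agent.Lib.CNGroups.Basic
import Cfsg.Agent.Lib.Base.HallConverse
import Cfsg.Agent.Lib.CharsMore.Frobenius
import Cfsg.Agent.Lib.FT.OddOrderTheorem

/-!
# TI centralisers: the centraliser of a central involution

Let `G` be non-solvable with TI centralisers and `H = C(t)` contain a Sylow 2-subgroup. Then
`N(H)` is strongly embedded and no non-identity element of `H` fixes a second coset of it, all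
involutions of `N(H)` have centraliser `H`, and the stabiliser of two cosets is inverted by the
involutions interchanging them.
-/

set_option autoImplicit false

namespace CfsgLib.Involutions.TICent

open Subgroup MulAction

variable {G : Type*} [Group G] [Finite G]

/-- The normaliser of the centraliser of `t`. -/
abbrev N₀ (t : G) : Subgroup G := normalizer ((centralizer ({t} : Set G) : Subgroup G) : Set G)

/-- A non-solvable group with TI centralisers and an involution central in a Sylow subgroup. -/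
structure Setup (t : G) : Prop where
  cti : CTI G
  nsol : ¬ Group.IsSolvable G
  ord : orderOf t = 2
  syl : ∃ P : Sylow 2 G, (P : Subgroup G) ≤ centralizer ({t} : Set G)

namespace Setup

variable {t : G} (hs : Setup t)
include hs

omit [Finite G] in
theorem ne_one : t ≠ 1 := fun e => by
  have := hs.ord
  rw [e, orderOf_one] at this
  omega

omit [Finite G] hs in
theorem mem_self : t ∈ centralizer ({t} : Set G) := mem_cent.2 (Commute.refl t)

omit [Finite G] hs in
theorem conj_mem {g a : G} (hg : g ∈ N₀ t) (ha : a ∈ centralizer ({t} : Set G)) :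
    g * a * g⁻¹ ∈ centralizer ({t} : Set G) :=
  (Subgroup.mem_normalizer_iff.1 hg a).1 ha

theorem nilpotent : Group.IsNilpotent (centralizer ({t} : Set G)) :=
  hs.cti.isNilpotent_centralizer hs.ne_one

theorem invol_mem {s : G} (hsN : s ∈ N₀ t) (hso : orderOf s = 2) :
    s ∈ centralizer ({t} : Set G) := by
  haveI : Fact (Nat.Prime 2) := ⟨Nat.prime_two⟩
  obtain ⟨P, hP⟩ := hs.syl
  let Q : Sylow 2 (N₀ t) := P.subtype (hP.trans le_normalizer)
  obtain ⟨R, hR⟩ := (IsPGroup.of_card (G := zpowers (⟨s, hsN⟩ : N₀ t)) (n := 1)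
    (by rw [Nat.card_zpowers, Subgroup.orderOf_mk, hso, pow_one])).exists_le_sylow
  obtain ⟨h, hh⟩ := MulAction.exists_smul_eq (N₀ t) Q R
  have hm : (⟨s, hsN⟩ : N₀ t) ∈ (R : Subgroup (N₀ t)) := hR (mem_zpowers _)
  rw [← hh, Sylow.coe_subgroup_smul, mem_pointwise_smul_iff_inv_smul_mem, MulAut.smul_def,
    ← map_inv, MulAut.conj_apply, inv_inv] at hm
  have hm' : (h : G)⁻¹ * s * h ∈ centralizer ({t} : Set G) := hP hm
  have := conj_mem h.2 hm'
  rwa [show (h : G) * ((h : G)⁻¹ * s * h) * (h : G)⁻¹ = s by group] at this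

theorem mem_of_meet {g a : G} (ha : a ∈ centralizer ({t} : Set G)) (ha1 : a ≠ 1)
    (hga : g⁻¹ * a * g ∈ centralizer ({t} : Set G)) : g ∈ N₀ t := by
  have := hs.cti.mem_normalizer (g := g⁻¹) ha ha1 (by rwa [inv_inv])
  exact inv_inv g ▸ inv_mem this

theorem N₀_ne_top : N₀ t ≠ ⊤ := by
  intro htop
  set H := centralizer ({t} : Set G) with hH
  haveI : H.Normal := normalizer_eq_top_iff.1 htop
  haveI := hs.nilpotent
  refine hs.nsol (Base.isSolvable_of_normal H inferInstance (FT.isSolvable_of_odd ?_))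
  obtain ⟨P, hP⟩ := hs.syl
  rw [← Nat.not_even_iff_odd, even_iff_two_dvd, ← index_eq_card]
  intro h2
  haveI : Fact (Nat.Prime 2) := ⟨Nat.prime_two⟩
  exact P.not_dvd_index (h2.trans (index_dvd_of_le hP))

theorem stronglyEmbedded : Cfsg.IsStronglyEmbedded (N₀ t) := by
  refine ⟨hs.N₀_ne_top, (even_card_iff _).2 ⟨t, le_normalizer mem_self, hs.ord⟩, fun g hg => ?_⟩
  rw [odd_card_iff]
  rintro s ⟨hsN, hsg₀⟩ hso
  have hsg := mem_conj_map.1 hsg₀
  refine hg (hs.mem_of_meet (hs.invol_mem hsN hso) (fun e => ?_) (hs.invol_mem hsg ?_))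
  · rw [e, orderOf_one] at hso
    omega
  · have := conj_invol g⁻¹ hso
    rwa [inv_inv] at this

local notation "x₀" => (QuotientGroup.mk (1 : G) : G ⧸ N₀ t)

omit hs [Finite G] in
theorem mem_N₀_iff {g : G} : g ∈ N₀ t ↔ g • x₀ = x₀ := by
  rw [SE.smul_mk_eq_iff]; simp

/-- A non-identity element of the centraliser fixes only the coset of the normaliser. -/
theorem free {a : G} (ha : a ∈ centralizer ({t} : Set G)) {z : G ⧸ N₀ t} (hz : x₀ ≠ z)
    (haz : a • z = z) : a = 1 := by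
  have hSE := hs.stronglyEmbedded
  by_contra ha1
  obtain ⟨⟨v, hv, hvz⟩⟩ : Nonempty {i : G // orderOf i = 2 ∧ i • x₀ = z} := by
    refine (Nat.card_pos_iff.1 ?_).1
    rw [SE.card_carry hSE hs.ord hz (mem_N₀_iff.1 (le_normalizer mem_self)), SE.card_fixing]
    haveI : Nonempty {i : G // orderOf i = 2 ∧ i ∈ N₀ t} := ⟨⟨t, hs.ord, le_normalizer mem_self⟩⟩
    exact Nat.card_pos
  have hvz' : v • z = x₀ := by rw [← hvz, ← mul_smul, invol_mul_self hv, one_smul]
  have hvi := invol_inv hv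
  have hvN : v ∉ N₀ t := fun h => hz ((mem_N₀_iff.1 h).symm.trans hvz)
  have haH : a ∈ N₀ t := le_normalizer ha
  have haodd : Odd (orderOf a) := SE.odd_of_two_fixed hSE hz (mem_N₀_iff.1 haH) haz
  set a' := v * a * v with ha'
  have ha'H : a' ∈ N₀ t := mem_N₀_iff.2 (by rw [ha', mul_smul, mul_smul, hvz, haz, hvz'])
  -- the commutator lies in the centraliser and in its conjugate
  have hc1 : a * a' * a⁻¹ * a'⁻¹ ∈ centralizer ({t} : Set G) := by
    rw [show a * a' * a⁻¹ * a'⁻¹ = a * (a' * a⁻¹ * a'⁻¹) by group]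
    exact mul_mem ha (conj_mem ha'H (inv_mem ha))
  have hc2 : v * (a * a' * a⁻¹ * a'⁻¹) * v ∈ centralizer ({t} : Set G) := by
    have : v * (a * a' * a⁻¹ * a'⁻¹) * v = (a' * a * a'⁻¹) * a⁻¹ := by
      have hvv := invol_mul_self hv
      simp only [ha', mul_inv_rev, hvi, mul_assoc]
      simp only [← mul_assoc v v, hvv, one_mul, mul_one]
    rw [this]
    exact mul_mem (conj_mem ha'H ha) (inv_mem ha)
  have hone : a * a' * a⁻¹ * a'⁻¹ = 1 := by
    by_contra hne
    exact hvN (hs.mem_of_meet hc1 hne (by rwa [hvi]))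
  have hcomm : Commute a a' := mul_inv_eq_iff_eq_mul.1 (mul_inv_eq_one.1 hone)
  have hcop : (orderOf a').Coprime (orderOf t) := by
    have : orderOf a' = orderOf a := by
      have h2 := MulEquiv.orderOf_eq (MulAut.conj v) a
      rwa [MulAut.conj_apply, hvi] at h2
    rw [this, hs.ord]
    exact Nat.coprime_two_right.2 haodd
  -- in the nilpotent centraliser of `a` elements of coprime order commute
  have ha'A : a' ∈ centralizer ({t} : Set G) :=
    mem_cent.2 (CNGroups.commute_of_coprime (hs.cti.isNilpotent_centralizer ha1)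
      (mem_cent.2 hcomm) (mem_cent.2 (mem_cent.1 ha).symm) hcop).symm
  exact hvN (hs.mem_of_meet ha ha1 (by rwa [hvi]))

theorem card_swapping {z : G ⧸ N₀ t} (hz : x₀ ≠ z) :
    Nat.card {i : G // orderOf i = 2 ∧ i • x₀ = z} =
      Nat.card {s : G // orderOf s = 2 ∧ s ∈ N₀ t} := by
  rw [SE.card_carry hs.stronglyEmbedded hs.ord hz (mem_N₀_iff.1 (le_normalizer mem_self)),
    SE.card_fixing]

theorem exists_swapping {z : G ⧸ N₀ t} (hz : x₀ ≠ z) : ∃ v : G, orderOf v = 2 ∧ v • x₀ = z := by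
  haveI : Nonempty {i : G // orderOf i = 2 ∧ i ∈ N₀ t} := ⟨⟨t, hs.ord, le_normalizer mem_self⟩⟩
  have h : 0 < Nat.card {i : G // orderOf i = 2 ∧ i • x₀ = z} := by
    rw [hs.card_swapping hz]; exact Nat.card_pos
  obtain ⟨⟨v, hv⟩⟩ := (Nat.card_pos_iff.1 h).1
  exact ⟨v, hv⟩

/-- The stabiliser of two cosets: order, transitivity, inversion. -/
theorem pair_facts {z : G ⧸ N₀ t} (hz : x₀ ≠ z) :
    Nat.card (stabilizer G x₀ ⊓ stabilizer G z : Subgroup G) =
        Nat.card {s : G // orderOf s = 2 ∧ s ∈ N₀ t} ∧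
      (∀ s : G, orderOf s = 2 → s ∈ N₀ t →
        ∃ d ∈ stabilizer G x₀ ⊓ stabilizer G z, d * t * d⁻¹ = s) ∧
      ∀ v : G, orderOf v = 2 → v • x₀ = z →
        ∀ d ∈ stabilizer G x₀ ⊓ stabilizer G z, v * d * v⁻¹ = d⁻¹ := by
  set D := stabilizer G x₀ ⊓ stabilizer G z
  have hDN : ∀ d ∈ D, d ∈ N₀ t := fun d hd => mem_N₀_iff.2 hd.1
  let f : D → {s : G // orderOf s = 2 ∧ s ∈ N₀ t} := fun d => ⟨d * t * (d : G)⁻¹,
    conj_invol _ hs.ord,
    mul_mem (mul_mem (hDN d d.2) (le_normalizer mem_self)) (inv_mem (hDN d d.2))⟩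
  have hf : Function.Injective f := by
    intro d e h
    have h' : (d : G) * t * (d : G)⁻¹ = e * t * (e : G)⁻¹ := congrArg Subtype.val h
    have hA : (e : G)⁻¹ * d ∈ centralizer ({t} : Set G) := mem_cent.2 (Commute.symm (by
      show (e : G)⁻¹ * d * t = t * ((e : G)⁻¹ * d)
      calc (e : G)⁻¹ * d * t = (e : G)⁻¹ * (d * t * (d : G)⁻¹) * d := by group
        _ = t * ((e : G)⁻¹ * d) := by rw [h']; group))
    exact Subtype.ext (inv_mul_eq_one.1
      (hs.free hA hz (mul_mem (inv_mem e.2) d.2 : (e : G)⁻¹ * d ∈ D).2)).symm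
  obtain ⟨v₀, hv₀, hv₀z⟩ := hs.exists_swapping hz
  have hge : ∀ v, orderOf v = 2 → v • x₀ = z →
      ∃ g : {i : G // orderOf i = 2 ∧ i • x₀ = z} → D, Function.Injective g ∧
        ∀ i, ((g i : D) : G) = i * v := by
    intro v hv hvz
    have hswap : ∀ i : G, orderOf i = 2 → i • x₀ = z → i • z = x₀ := fun i hi hiz => by
      rw [← hiz, ← mul_smul, invol_mul_self hi, one_smul]
    refine ⟨fun i => ⟨i * v, ⟨?_, ?_⟩⟩, fun i j h => Subtype.ext
      (mul_right_cancel (congrArg Subtype.val h)), fun i => rfl⟩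
    · show ((i : G) * v) • x₀ = x₀
      rw [mul_smul, hvz, hswap _ i.2.1 i.2.2]
    · show ((i : G) * v) • z = z
      rw [mul_smul, hswap v hv hvz, i.2.2]
  have hcard : Nat.card D = Nat.card {s : G // orderOf s = 2 ∧ s ∈ N₀ t} := by
    refine le_antisymm (Nat.card_le_card_of_injective f hf) ?_
    rw [← hs.card_swapping hz]
    obtain ⟨g, hg, -⟩ := hge v₀ hv₀ hv₀z
    exact Nat.card_le_card_of_injective g hg
  refine ⟨hcard, fun s hs' hsN => ?_, fun v hv hvz d hd => ?_⟩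
  · obtain ⟨d, hd⟩ :=
      ((Nat.bijective_iff_injective_and_card f).2 ⟨hf, hcard⟩).2 ⟨s, hs', hsN⟩
    exact ⟨d, d.2, congrArg Subtype.val hd⟩
  · obtain ⟨g, hg, hg'⟩ := hge v hv hvz
    obtain ⟨i, hi⟩ := ((Nat.bijective_iff_injective_and_card g).2
      ⟨hg, (hs.card_swapping hz).trans hcard.symm⟩).2 ⟨d, hd⟩
    have hd' : d = (i : G) * v := by rw [← hg', hi]
    rw [hd', mul_inv_rev, invol_inv hv, invol_inv i.2.1, mul_assoc v, mul_assoc (i : G),
      invol_mul_self hv, mul_one]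

theorem exists_other : ∃ z : G ⧸ N₀ t, x₀ ≠ z := by
  obtain ⟨u, hu, -⟩ := SE.exists_invol_not_mem hs.stronglyEmbedded
  exact ⟨u • x₀, fun e => hu (mem_N₀_iff.2 e.symm)⟩

/-- Every involution of the normaliser has the same centraliser. -/
theorem centralizer_invol {s : G} (hsN : s ∈ N₀ t) (hso : orderOf s = 2) :
    centralizer ({s} : Set G) = centralizer ({t} : Set G) := by
  obtain ⟨z, hz⟩ := hs.exists_other
  obtain ⟨d, hd, rfl⟩ := (hs.pair_facts hz).2.1 s hso hsN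
  have hdN : d ∈ N₀ t := mem_N₀_iff.2 hd.1
  ext y
  rw [(Subgroup.mem_normalizer_iff.1 (inv_mem hdN)) y, inv_inv, mem_cent, mem_cent,
    commute_iff_eq, commute_iff_eq]
  constructor <;> intro h
  · calc t * (d⁻¹ * y * d) = d⁻¹ * (d * t * d⁻¹ * y) * d := by group
      _ = d⁻¹ * (y * (d * t * d⁻¹)) * d := by rw [h]
      _ = d⁻¹ * y * d * t := by group
  · calc d * t * d⁻¹ * y = d * (t * (d⁻¹ * y * d)) * d⁻¹ := by group
      _ = d * (d⁻¹ * y * d * t) * d⁻¹ := by rw [h]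
      _ = y * (d * t * d⁻¹) := by group

theorem invol_central {s a : G} (hsN : s ∈ N₀ t) (hso : orderOf s = 2)
    (ha : a ∈ centralizer ({t} : Set G)) : Commute s a := by
  rw [← hs.centralizer_invol hsN hso] at ha
  exact mem_cent.1 ha

/-- An involution interchanging two cosets inverts their stabiliser. -/
theorem inverts {x y : G ⧸ N₀ t} (hxy : x ≠ y) {v : G} (hv : orderOf v = 2) (hvx : v • x = y)
    {d : G} (hdx : d • x = x) (hdy : d • y = y) : v * d * v⁻¹ = d⁻¹ := by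
  obtain ⟨g, rfl⟩ := QuotientGroup.mk_surjective x
  have hg : g⁻¹ • (g : G ⧸ N₀ t) = x₀ := by
    rw [MulAction.Quotient.smul_mk, smul_eq_mul, inv_mul_cancel]
  have hg' : g • x₀ = (g : G ⧸ N₀ t) := by
    rw [MulAction.Quotient.smul_mk, smul_eq_mul, mul_one]
  have hne : x₀ ≠ g⁻¹ • y := fun e => hxy (by rw [← hg', e, smul_inv_smul])
  have hv' : orderOf (g⁻¹ * v * g) = 2 := by
    have := conj_invol g⁻¹ hv
    rwa [inv_inv] at this
  have h := (hs.pair_facts hne).2.2 _ hv'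
    (by rw [mul_smul, mul_smul, hg', hvx]) (g⁻¹ * d * g)
    ⟨by show (g⁻¹ * d * g) • x₀ = x₀; rw [mul_smul, mul_smul, hg', hdx, hg],
      by show (g⁻¹ * d * g) • g⁻¹ • y = g⁻¹ • y; rw [mul_smul, mul_smul, smul_inv_smul, hdy]⟩
  have h2 := congrArg (fun w => g * w * g⁻¹) h
  simpa [mul_assoc] using h2

/-- `N(H) = D H`. -/
theorem exists_factor {h : G} (hh : h ∈ N₀ t) {z : G ⧸ N₀ t} (hz : x₀ ≠ z) :
    ∃ d ∈ stabilizer G x₀ ⊓ stabilizer G z, d⁻¹ * h ∈ centralizer ({t} : Set G) := by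
  obtain ⟨d, hd, e⟩ := (hs.pair_facts hz).2.1 (h * t * h⁻¹) (conj_invol h hs.ord)
    (mul_mem (mul_mem hh (le_normalizer mem_self)) (inv_mem hh))
  refine ⟨d, hd, mem_cent.2 (Commute.symm ?_)⟩
  show d⁻¹ * h * t = t * (d⁻¹ * h)
  calc d⁻¹ * h * t = d⁻¹ * (h * t * h⁻¹) * h := by group
    _ = t * (d⁻¹ * h) := by rw [← e]; group

/-- There are at least two involutions in the normaliser: otherwise it is a Frobenius
complement and `G` is solvable. -/
theorem two_le_invol : 2 ≤ Nat.card {s : G // orderOf s = 2 ∧ s ∈ N₀ t} := by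
  by_contra hlt
  push Not at hlt
  have huniq : ∀ s, orderOf s = 2 → s ∈ N₀ t → s = t := fun s hs' hsN => by
    haveI : Subsingleton {s : G // orderOf s = 2 ∧ s ∈ N₀ t} :=
      Finite.card_le_one_iff_subsingleton.1 (by omega)
    exact congrArg Subtype.val (Subsingleton.elim (α := {s : G // orderOf s = 2 ∧ s ∈ N₀ t})
      ⟨s, hs', hsN⟩ ⟨t, hs.ord, le_normalizer mem_self⟩)
  have hle : N₀ t ≤ centralizer ({t} : Set G) := fun g hg => by
    have hgt : g * t * g⁻¹ = t :=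
      huniq _ (conj_invol g hs.ord) (le_normalizer (conj_mem hg mem_self))
    exact mem_cent.2 (show Commute g t from mul_inv_eq_iff_eq_mul.1 hgt).symm
  obtain ⟨K, hK, hc, -⟩ := CharsMore.exists_frobenius_kernel (centralizer ({t} : Set G))
    fun g hg a ha hga => by
      by_contra ha1
      exact hg (hle (hs.cti.mem_normalizer ha ha1 hga))
  haveI := hK
  haveI := hs.nilpotent
  refine hs.nsol (Base.isSolvable_of_normal K (FT.isSolvable_of_odd ?_) ?_)
  · obtain ⟨P, hP⟩ := hs.syl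
    haveI : Fact (Nat.Prime 2) := ⟨Nat.prime_two⟩
    rw [← Nat.not_even_iff_odd, even_iff_two_dvd, ← hc.index_eq_card]
    exact fun h2 => P.not_dvd_index (h2.trans (index_dvd_of_le hP))
  · exact Group.isSolvable_of_surjective (f := hc.symm.QuotientMulEquiv.symm.toMonoidHom)
      hc.symm.QuotientMulEquiv.symm.surjective

/-- Only the identity fixes three cosets. -/
theorem eq_one_of_three {d : G} {z w : G ⧸ N₀ t} (hz : x₀ ≠ z) (hw : x₀ ≠ w) (hzw : z ≠ w)
    (h0 : d • x₀ = x₀) (h1 : d • z = z) (h2 : d • w = w) : d = 1 := by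
  have hSE := hs.stronglyEmbedded
  by_contra hd1
  have hpos : ∀ {x y : G ⧸ N₀ t}, x ≠ y → ∃ v : G, orderOf v = 2 ∧ v • x = y := by
    intro x y hxy
    obtain ⟨a, rfl⟩ := QuotientGroup.mk_surjective x
    have h3 := SE.card_carry hSE (conj_invol a hs.ord) hxy (SE.smul_mk_eq_iff.2
      (by simpa [mul_assoc] using le_normalizer (mem_self (t := t))))
    rw [SE.card_fixing] at h3
    haveI : Nonempty {i : G // orderOf i = 2 ∧ i ∈ N₀ t} :=
      ⟨⟨t, hs.ord, le_normalizer mem_self⟩⟩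
    have h4 : 0 < Nat.card {i : G // orderOf i = 2 ∧ i • (a : G ⧸ N₀ t) = y} := h3 ▸ Nat.card_pos
    obtain ⟨⟨v, hv⟩⟩ := (Nat.card_pos_iff.1 h4).1
    exact ⟨v, hv⟩
  obtain ⟨u, hu, hu1⟩ := hpos hz
  obtain ⟨v, hv, hv1⟩ := hpos hzw
  obtain ⟨r, hr, hr1⟩ := hpos hw
  have hr2 : r • w = x₀ := by rw [← hr1, ← mul_smul, invol_mul_self hr, one_smul]
  set k := r * v * u with hk
  have hkH : k ∈ N₀ t := mem_N₀_iff.2 (by rw [hk, mul_smul, mul_smul, hu1, hv1, hr2])
  have hkd : k * d * k⁻¹ = d⁻¹ := by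
    have e1 := hs.inverts hz hu hu1 h0 h1
    have e2 := hs.inverts hzw hv hv1 h1 h2
    have e3 := hs.inverts hw hr hr1 h0 h2
    have e2' : v * d⁻¹ * v⁻¹ = d := by
      rw [← inv_inv d, inv_inv d⁻¹]; simpa [mul_assoc] using congrArg (·⁻¹) e2
    calc k * d * k⁻¹ = r * (v * (u * d * u⁻¹) * v⁻¹) * r⁻¹ := by rw [hk]; group
      _ = d⁻¹ := by rw [e1, e2', e3]
  obtain ⟨f, hf, hfa⟩ := hs.exists_factor hkH hz
  set a := f⁻¹ * k with ha
  have hD := (hs.pair_facts hz).2.2 u hu hu1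
  have hfd : f⁻¹ * d⁻¹ * f = d⁻¹ := by
    have hdd : d⁻¹ ∈ stabilizer G x₀ ⊓ stabilizer G z := inv_mem ⟨h0, h1⟩
    have e : (u * d⁻¹ * u⁻¹) * (u * f * u⁻¹) = u * (d⁻¹ * f) * u⁻¹ := by group
    rw [hD _ hdd, hD _ hf, hD _ (mul_mem hdd hf)] at e
    have e' : f * d⁻¹ = d⁻¹ * f := by
      have := congrArg (·⁻¹) e
      simpa [mul_inv_rev] using this
    rw [mul_assoc, ← e', inv_mul_cancel_left]
  have had : a * d * a⁻¹ = d⁻¹ := by
    calc a * d * a⁻¹ = f⁻¹ * (k * d * k⁻¹) * f := by rw [ha]; group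
      _ = d⁻¹ := by rw [hkd, hfd]
  have hdH : d ∈ N₀ t := mem_N₀_iff.2 h0
  have hsq : d⁻¹ * d⁻¹ = 1 := by
    refine hs.free ?_ hz ?_
    · rw [show d⁻¹ * d⁻¹ = a * (d * a⁻¹ * d⁻¹) by
        rw [show a * (d * a⁻¹ * d⁻¹) = a * d * a⁻¹ * d⁻¹ by group, had]]
      exact mul_mem hfa (conj_mem hdH (inv_mem hfa))
    · rw [mul_smul, inv_smul_eq_iff.2 h1.symm, inv_smul_eq_iff.2 h1.symm]
  refine hd1 (eq_one_of_eq_inv_of_odd (eq_inv_of_mul_eq_one_left ?_)
    (SE.odd_of_two_fixed hSE hz h0 h1))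
  simpa using congrArg (·⁻¹) hsq

end Setup

end CfsgLib.Involutions.TICent
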