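import Cfsg.Agent.Lib.Involutions.TICent.StrongEmb
import Cfsg.Agent.Lib.Perm.ZassG.Feit
import Cfsg.Agent.Lib.Chev.Suz2.ZassKernel
import Cfsg.Agent.Lib.Involutions.ElemAbCentPSL

/-!
# TI centralisers: the non-solvable case

The action on the cosets of `N(H)` is that of a Zassenhaus group with kernel `H`. By Feit's
theorem either `H` is as small as its involutions allow, hence elementary abelian, or it is a
2-group of order `q²` all of whose elements outside the centre would commute with one another.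
-/

set_option autoImplicit false

namespace CfsgLib.Involutions.TICent

open Subgroup MulAction

variable {G : Type*} [Group G] [Finite G]

namespace Setup

variable {t : G} (hs : Setup t)
include hs

local notation "x₀" => (QuotientGroup.mk (1 : G) : G ⧸ N₀ t)

/-- The centraliser of `t` is transitive on the other cosets. -/
theorem transitive {z w : G ⧸ N₀ t} (hz : x₀ ≠ z) (hw : x₀ ≠ w) :
    ∃ a ∈ centralizer ({t} : Set G), a • z = w := by
  classical
  set D := stabilizer G x₀ ⊓ stabilizer G z
  have hAH : centralizer ({t} : Set G) ≤ N₀ t := le_normalizer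
  have hDH : ∀ d ∈ D, d ∈ N₀ t := fun d hd => mem_N₀_iff.2 hd.1
  have ha0 : ∀ a ∈ centralizer ({t} : Set G), a • x₀ = x₀ := fun a ha => mem_N₀_iff.1 (hAH ha)
  let φ : (↥(centralizer ({t} : Set G)) ⊕ ↥(centralizer ({t} : Set G)) × {d : D // d ≠ 1}) → N₀ t :=
    Sum.elim (fun a => ⟨a, hAH a.2⟩)
      (fun p => ⟨(p.1 : G) * (p.2.1 : G) * (p.1 : G)⁻¹,
        mul_mem (mul_mem (hAH p.1.2) (hDH _ p.2.1.2)) (inv_mem (hAH p.1.2))⟩)
  have hne : ∀ p : ↥(centralizer ({t} : Set G)) × {d : D // d ≠ 1},
      ((φ (Sum.inr p) : N₀ t) : G) ∉ centralizer ({t} : Set G) := by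
    rintro ⟨a, ⟨d, hd⟩, hd1⟩ h
    refine hd1 (Subtype.ext ?_)
    have h' : (a : G) * d * (a : G)⁻¹ ∈ centralizer ({t} : Set G) := h
    have hdA : d ∈ centralizer ({t} : Set G) := by
      have := mul_mem (mul_mem (inv_mem a.2) h') a.2
      rwa [show (a : G)⁻¹ * ((a : G) * d * (a : G)⁻¹) * a = d by group] at this
    exact hs.free hdA hz hd.2
  have hφ : Function.Injective φ := by
    rintro (a | p) (b | q) h
    · exact congrArg Sum.inl (Subtype.ext (congrArg Subtype.val h :))
    · exact absurd (by rw [← h]; exact a.2) (hne q)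
    · exact absurd (by rw [h]; exact b.2) (hne p)
    · obtain ⟨a, ⟨d, hd⟩, hd1⟩ := p
      obtain ⟨b, ⟨e, he⟩, he1⟩ := q
      have h' : (a : G) * d * (a : G)⁻¹ = b * e * (b : G)⁻¹ := congrArg Subtype.val h
      set c := (a : G)⁻¹ * b with hc
      have hcA : c ∈ centralizer ({t} : Set G) := mul_mem (inv_mem a.2) b.2
      have hde : d = c * e * c⁻¹ := by
        calc d = (a : G)⁻¹ * ((a : G) * d * (a : G)⁻¹) * a := by group
          _ = _ := by rw [h', hc]; group
      have hcz : c • z = z := by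
        by_contra hne'
        refine hd1 (Subtype.ext (hs.eq_one_of_three hz ?_ (Ne.symm hne') hd.1 hd.2 ?_))
        · intro e'
          have := congrArg (c⁻¹ • ·) e'
          simp only [inv_smul_smul, inv_smul_eq_iff.2 (ha0 c hcA).symm] at this
          exact hz this
        · show d • c • z = c • z
          rw [hde, mul_smul, mul_smul, inv_smul_smul]
          congr 1
          exact he.2
      have hc1 := hs.free hcA hz hcz
      rw [hc1, one_mul, inv_one, mul_one] at hde
      subst hde
      rw [hc, inv_mul_eq_one] at hc1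
      obtain rfl : a = b := Subtype.ext hc1
      rfl
  have hNcard : Nat.card (N₀ t) = Nat.card ↥(centralizer ({t} : Set G)) * Nat.card D := by
    have hb : Function.Bijective fun p : D × ↥(centralizer ({t} : Set G)) =>
        (⟨(p.1 : G) * p.2, mul_mem (hDH _ p.1.2) (hAH p.2.2)⟩ : N₀ t) := by
      refine ⟨fun p q h => ?_, fun h => ?_⟩
      · have h' : (p.1 : G) * p.2 = q.1 * q.2 := congrArg Subtype.val h
        have h1 : (q.1 : G)⁻¹ * p.1 = q.2 * (p.2 : G)⁻¹ := by
          rw [inv_mul_eq_iff_eq_mul, ← mul_assoc, ← h', mul_inv_cancel_right]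
        have h2 : (q.1 : G)⁻¹ * p.1 = 1 := hs.free
          (h1 ▸ mul_mem q.2.2 (inv_mem p.2.2)) hz (mul_mem (inv_mem q.1.2) p.1.2).2
        refine Prod.ext (Subtype.ext (inv_mul_eq_one.1 h2).symm) (Subtype.ext ?_)
        rw [h2] at h1
        exact (mul_inv_eq_one.1 h1.symm).symm
      · obtain ⟨d, hd, hda⟩ := hs.exists_factor h.2 hz
        exact ⟨(⟨d, hd⟩, ⟨_, hda⟩), Subtype.ext (mul_inv_cancel_left _ _)⟩
    rw [← Nat.card_eq_of_bijective _ hb, Nat.card_prod, mul_comm]
  have hsurj : Function.Surjective φ := ((Nat.bijective_iff_injective_and_card φ).2 ⟨hφ, by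
    have h1 : Nat.card {d : D // d ≠ 1} + 1 = Nat.card D := by
      haveI := Fintype.ofFinite D
      rw [Nat.card_eq_fintype_card, Fintype.card_subtype_compl, Fintype.card_subtype_eq,
        Nat.card_eq_fintype_card, Nat.sub_add_cancel Fintype.card_pos]
    rw [Nat.card_sum, Nat.card_prod, hNcard, ← h1]
    ring⟩).2
  obtain ⟨hcw, -, -⟩ := hs.pair_facts hw
  haveI : Nontrivial (stabilizer G x₀ ⊓ stabilizer G w : Subgroup G) :=
    Finite.one_lt_card_iff_nontrivial.1 (by rw [hcw]; exact hs.two_le_invol)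
  obtain ⟨⟨d, hd⟩, hd1⟩ := exists_ne (1 : (stabilizer G x₀ ⊓ stabilizer G w : Subgroup G))
  have hd1' : d ≠ 1 := fun e => hd1 (Subtype.ext e)
  obtain ⟨x, hx⟩ := hsurj ⟨d, mem_N₀_iff.2 hd.1⟩
  rcases x with a | ⟨a, ⟨e, he⟩, he1⟩
  · have : (a : G) = d := congrArg Subtype.val hx
    exact absurd (hs.free (this ▸ a.2) hw hd.2) hd1'
  · have he' : (a : G) * e * (a : G)⁻¹ = d := congrArg Subtype.val hx
    refine ⟨a, a.2, ?_⟩
    by_contra hne'
    refine hd1' (hs.eq_one_of_three hw ?_ (Ne.symm hne') hd.1 hd.2 ?_)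
    · intro h
      have := congrArg ((a : G)⁻¹ • ·) h
      simp only [inv_smul_smul, inv_smul_eq_iff.2 (ha0 a a.2).symm] at this
      exact hz this
    · rw [← he', mul_smul, mul_smul, inv_smul_smul]
      congr 1
      exact he.2

theorem eq_one_of_three' {g : G} {a b c : G ⧸ N₀ t} (hab : a ≠ b) (hbc : b ≠ c) (hac : a ≠ c)
    (ha : g • a = a) (hb : g • b = b) (hc : g • c = c) : g = 1 := by
  obtain ⟨k, rfl⟩ := QuotientGroup.mk_surjective a
  have hk : k • x₀ = (k : G ⧸ N₀ t) := by
    rw [MulAction.Quotient.smul_mk, smul_eq_mul, mul_one]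
  have key : ∀ {y : G ⧸ N₀ t}, g • y = y → (k⁻¹ * g * k) • (k⁻¹ • y) = k⁻¹ • y := fun hy => by
    rw [mul_smul, mul_smul, smul_inv_smul, hy]
  have := hs.eq_one_of_three (d := k⁻¹ * g * k) (z := k⁻¹ • b) (w := k⁻¹ • c)
    (fun e => hab (by rw [← hk, e, smul_inv_smul])) (fun e => hac (by rw [← hk, e, smul_inv_smul]))
    (fun e => hbc ((smul_left_cancel_iff _).1 e))
    (by rw [mul_smul, mul_smul, hk, ha, ← hk, inv_smul_smul]) (key hb) (key hc)
  rw [← conj_eq_one_iff (a := k⁻¹)]
  simpa using this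

theorem isKernel : Perm.ZassG.IsKernel x₀ (centralizer ({t} : Set G)) :=
  ⟨fun a ha => mem_N₀_iff.1 (le_normalizer ha), fun g hg a ha => conj_mem (mem_N₀_iff.2 hg) ha,
    fun y w hy hw => by
      obtain ⟨a, ha, e⟩ := hs.transitive (Ne.symm hy) (Ne.symm hw)
      refine ⟨⟨a, ha⟩, e, fun b hb => Subtype.ext ?_⟩
      have hb' : (b : G) • y = w := hb
      have := hs.free (mul_mem (inv_mem ha) b.2) (Ne.symm hy)
        (by rw [mul_smul, hb', ← e, inv_smul_smul])
      exact (inv_mul_eq_one.1 this).symm⟩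

theorem even_card_centralizer : 2 ∣ Nat.card (centralizer ({t} : Set G)) := by
  have := (centralizer ({t} : Set G)).orderOf_dvd_natCard mem_self
  rwa [hs.ord] at this

theorem isZassenhausGroup : Cfsg.IsZassenhausGroup G (G ⧸ N₀ t) := by
  classical
  obtain ⟨z, hz⟩ := hs.exists_other
  have hm2 := hs.two_le_invol
  have hcard : Nat.card (G ⧸ N₀ t) = Nat.card (centralizer ({t} : Set G)) + 1 :=
    (hs.isKernel.card_add_one hz).symm
  have htwo : IsMultiplyPretransitive G (G ⧸ N₀ t) 2 := by
    rw [is_two_pretransitive_iff]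
    intro a b c d hab hcd
    obtain ⟨k, hk⟩ := exists_smul_eq G a x₀
    obtain ⟨l, hl⟩ := exists_smul_eq G c x₀
    obtain ⟨e, heA, he⟩ := hs.transitive (z := k • b) (w := l • d)
      (fun h => hab (smul_left_cancel k (hk.trans h))) (fun h => hcd (smul_left_cancel l (hl.trans h)))
    refine ⟨l⁻¹ * e * k, ?_, ?_⟩
    · rw [mul_smul, mul_smul, hk, mem_N₀_iff.1 (le_normalizer heA), inv_smul_eq_iff, hl]
    · rw [mul_smul, mul_smul, he, inv_smul_smul]
  refine ⟨⟨fun {g h} hgh => ?_⟩, htwo, fun g a b c => hs.eq_one_of_three', ?_, fun N hN hNt => ?_⟩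
  · obtain ⟨w, hw⟩ : ∃ w, w ∉ ({x₀, z} : Finset (G ⧸ N₀ t)) := by
      by_contra hne
      push Not at hne
      haveI := Fintype.ofFinite (G ⧸ N₀ t)
      have h1 := Finset.card_le_card (s := (Finset.univ : Finset (G ⧸ N₀ t))) fun u _ => hne u
      have h2 := Finset.card_le_two (a := x₀) (b := z)
      have h3 := Nat.le_of_dvd Nat.card_pos hs.even_card_centralizer
      rw [Finset.card_univ, ← Nat.card_eq_fintype_card] at h1
      omega
    simp only [Finset.mem_insert, Finset.mem_singleton, not_or] at hw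
    have hall : ∀ y : G ⧸ N₀ t, (h⁻¹ * g) • y = y := fun y => by
      rw [mul_smul, hgh y, inv_smul_smul]
    exact (inv_mul_eq_one.1 (hs.eq_one_of_three hz (Ne.symm hw.1) (Ne.symm hw.2)
      (hall _) (hall _) (hall _))).symm
  · haveI : Nontrivial (stabilizer G x₀ ⊓ stabilizer G z : Subgroup G) :=
      Finite.one_lt_card_iff_nontrivial.1 (by rw [(hs.pair_facts hz).1]; omega)
    obtain ⟨⟨d, hd⟩, hd1⟩ := exists_ne (1 : (stabilizer G x₀ ⊓ stabilizer G z : Subgroup G))
    exact ⟨d, fun e => hd1 (Subtype.ext e), x₀, z, hz, hd.1, hd.2⟩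
  · refine ⟨x₀, fun hbot => hs.nsol ?_⟩
    haveI := hN
    haveI : MulAction.IsPretransitive N (G ⧸ N₀ t) := hNt
    have hNcard : Nat.card N = Nat.card (G ⧸ N₀ t) := by
      refine Eq.trans ?_ (index_stabilizer_of_transitive (G := N) x₀)
      exact index_bot.symm.trans (congrArg Subgroup.index hbot).symm
    have hNodd : Odd (Nat.card N) := by
      rw [hNcard, hcard]
      exact (even_iff_two_dvd.2 hs.even_card_centralizer).add_one
    have hsurj : Function.Surjective ((QuotientGroup.mk' N).comp (N₀ t).subtype) := by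
      intro q
      obtain ⟨g, rfl⟩ := QuotientGroup.mk'_surjective N q
      obtain ⟨n, hn⟩ := hNt.exists_smul_eq (g • x₀) x₀
      refine ⟨⟨(n : G) * g, mem_N₀_iff.2 (by rw [mul_smul]; exact hn)⟩, ?_⟩
      show QuotientGroup.mk' N ((n : G) * g) = _
      rw [map_mul, show QuotientGroup.mk' N (n : G) = 1 from (QuotientGroup.eq_one_iff (n : G)).2 n.2,
        one_mul]
    have hNsol : Group.IsSolvable (N₀ t) := by
      haveI hH : Group.IsNilpotent (centralizer ({t} : Set G)) := hs.nilpotent
      haveI := (Subgroup.normal_in_normalizer (H := centralizer ({t} : Set G)))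
      refine Base.isSolvable_of_normal
        ((centralizer ({t} : Set G)).subgroupOf (N₀ t)) ?_ (FT.isSolvable_of_odd ?_)
      · exact Group.isSolvable_of_isSolvable_injective
          (f := (subgroupOfEquivOfLe (le_normalizer (H := centralizer ({t} : Set G)))).toMonoidHom)
          (subgroupOfEquivOfLe _).injective
      · obtain ⟨P, hP⟩ := hs.syl
        haveI : Fact (Nat.Prime 2) := ⟨Nat.prime_two⟩
        rw [← Nat.not_even_iff_odd, even_iff_two_dvd, ← index_eq_card]
        intro h2
        exact P.not_dvd_index (h2.trans ((relIndex_dvd_of_le_left _ hP).trans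
          ⟨_, (relIndex_mul_index (hP.trans le_normalizer)).symm⟩))
    haveI := hNsol
    exact Base.isSolvable_of_normal N (FT.isSolvable_of_odd hNodd)
      (Group.isSolvable_of_surjective hsurj)

theorem inverted {z : G ⧸ N₀ t} (hz : x₀ ≠ z) : Perm.ZassG.Inverted G x₀ z := by
  refine ⟨?_, fun s hsa hsb h hh => ?_⟩
  · rw [odd_card_iff]
    intro u hu hu2
    have := SE.odd_of_two_fixed hs.stronglyEmbedded hz hu.1 hu.2
    rw [hu2] at this
    exact absurd this (by decide)
  · obtain ⟨v, hv, hvz⟩ := hs.exists_swapping hz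
    have hvz' : v • z = x₀ := by rw [← hvz, ← mul_smul, invol_mul_self hv, one_smul]
    have hd : v * s ∈ stabilizer G x₀ ⊓ stabilizer G z :=
      ⟨by show (v * s) • x₀ = x₀; rw [mul_smul, hsa, hvz'],
        by show (v * s) • z = z; rw [mul_smul, hsb, hvz]⟩
    have hD := (hs.pair_facts hz).2.2 v hv hvz
    -- the two-coset stabiliser is inverted by `v`, hence abelian
    have hcomm : (v * s) * h = h * (v * s) := by
      have e : (v * (v * s) * v⁻¹) * (v * h * v⁻¹) = v * ((v * s) * h) * v⁻¹ := by group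
      rw [hD _ hd, hD _ hh, hD _ (mul_mem hd hh)] at e
      have := congrArg (·⁻¹) e
      simpa [mul_inv_rev] using this.symm
    calc s * h * s⁻¹ = v⁻¹ * ((v * s) * h * (v * s)⁻¹) * v := by group
      _ = v⁻¹ * h * v := by rw [hcomm]; group
      _ = v * h * v⁻¹ := by rw [invol_inv hv]
      _ = h⁻¹ := hD _ hh

/-- The centraliser of `t` is an elementary abelian 2-group. -/
theorem exponent_two : ∀ a ∈ centralizer ({t} : Set G), a * a = 1 := by
  classical
  obtain ⟨z, hz⟩ := hs.exists_other
  have hZ := hs.isZassenhausGroup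
  have hK := hs.isKernel
  have hI := hs.inverted hz
  set H := centralizer ({t} : Set G) with hH
  obtain ⟨hD, -, -⟩ := hs.pair_facts hz
  -- involutions of the centraliser with `1` form a subgroup of order `k + 1`
  let Z₁ : Subgroup H :=
    { carrier := {a | a * a = 1}
      one_mem' := one_mul 1
      inv_mem' := fun {a} ha => by
        show a⁻¹ * a⁻¹ = 1
        rw [← mul_inv_rev, show a * a = 1 from ha, inv_one]
      mul_mem' := fun {a b} ha hb => by
        show a * b * (a * b) = 1
        rcases eq_or_ne a 1 with rfl | ha1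
        · rw [one_mul]; exact hb
        have hc : Commute a b := Subtype.ext (hs.invol_central (le_normalizer a.2)
          (invol_iff.2 ⟨congrArg Subtype.val ha, fun e => ha1 (Subtype.ext e)⟩) b.2).eq
        rw [hc.symm.mul_mul_mul_comm, show a * a = 1 from ha, show b * b = 1 from hb, one_mul] }
  have hZ₁ : Nat.card Z₁ = Nat.card (stabilizer G x₀ ⊓ stabilizer G z : Subgroup G) + 1 := by
    rw [hD, ← Finite.card_option]
    exact Nat.card_congr
      { toFun := fun a => if ha : (a : G) = 1 then none else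
          some ⟨a, invol_iff.2 ⟨congrArg Subtype.val a.2, ha⟩, le_normalizer a.1.2⟩
        invFun := fun o => o.elim 1 fun s =>
          ⟨⟨s, hs.invol_mem s.2.2 s.2.1⟩, Subtype.ext (invol_mul_self s.2.1)⟩
        left_inv := fun a => by
          by_cases ha : (a : G) = 1
          · simp only [ha, dite_true, Option.elim]
            exact Subtype.ext (Subtype.ext ha.symm)
          · simp [ha]
        right_inv := fun o => by
          cases o with
          | none => simp
          | some s =>
            have : (s : G) ≠ 1 := fun e => by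
              have h2 := s.2.1
              rw [e, orderOf_one] at h2
              omega
            simp [this] }
  let _ : Fintype G := Fintype.ofFinite G
  rcases Perm.ZassG.feit (Nat.card G) G rfl hZ hz hI.odd H hK with hle | ⟨h2, hna, -⟩
  · intro a ha
    have htop : Z₁ = ⊤ := by
      refine eq_top_of_card_eq Z₁ ?_
      obtain ⟨c, hc⟩ := Z₁.card_subgroup_dvd_card
      have hHpos : 0 < Nat.card H := Nat.card_pos
      rcases c with _ | _ | c
      · rw [mul_zero] at hc; omega
      · rw [hc, zero_add, mul_one]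
      · exfalso
        have : 2 * Nat.card Z₁ ≤ Nat.card H := by
          rw [hc, mul_comm]; exact Nat.mul_le_mul_left _ (by omega)
        have hle' : Nat.card H ≤
            2 * Nat.card (stabilizer G x₀ ⊓ stabilizer G z : Subgroup G) + 1 := hle
        omega
    exact congrArg Subtype.val (show (⟨a, ha⟩ : H) ∈ Z₁ from htop ▸ mem_top _)
  exfalso
  have hC : Chev.Suz2.Ctx G x₀ z H := ⟨hZ, hz, hI, hK, h2, hna⟩
  obtain ⟨n, hn2, hq, hZcard, -, -, hsq⟩ := hC.cards
  obtain ⟨n', -, -, hq', -, -, hF⟩ := hC.kernel_card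
  rw [← hq', hq] at hF
  -- an element `x` outside the centre commutes with all its conjugates under `D`
  obtain ⟨u₀, v₀, huv⟩ := hna
  have hex : ∃ x : H, x ∉ center H := ⟨u₀, fun hu => huv (mem_center_iff.1 hu v₀).symm⟩
  obtain ⟨x, hx⟩ := hex
  have hx1 : (x : G) ≠ 1 := fun e => hx (by
    rw [show x = 1 from Subtype.ext e]; exact one_mem _)
  have hx2 : (x : G) * x ≠ 1 := fun e => hx (mem_center_iff.2 fun y => Subtype.ext
    (hs.invol_central (le_normalizer x.2) (invol_iff.2 ⟨e, hx1⟩) y.2).eq.symm)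
  have hcen : center H = Z₁ := by
    refine (Subgroup.eq_of_le_of_card_ge (fun a ha => mem_center_iff.2 fun y => Subtype.ext ?_) ?_).symm
    · rcases eq_or_ne (a : G) 1 with h1 | h1
      · show (y : G) * a = a * y
        rw [h1, mul_one, one_mul]
      · exact (hs.invol_central (le_normalizer a.2)
          (invol_iff.2 ⟨congrArg Subtype.val ha, h1⟩) y.2).eq.symm
    · rw [hZ₁, hZcard, ← hq]
  set D := stabilizer G x₀ ⊓ stabilizer G z
  have hDN : ∀ d : D, (d : G) ∈ N₀ t := fun d => mem_N₀_iff.2 d.2.1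
  have hcommd : ∀ d : D, Commute (x : G) ((d : G) * x * (d : G)⁻¹) := by
    intro d
    have hn : (d : G) ∈ normalizer ((centralizer ({(x : G)} : Set G) : Subgroup G) : Set G) := by
      refine hs.cti.mem_normalizer (w := t) (mem_cent.2 (mem_cent.1 x.2).symm) hs.ne_one
        (mem_cent.2 (hs.invol_central ?_ (conj_invol _ hs.ord) x.2).symm)
      exact mul_mem (mul_mem (hDN d) (le_normalizer mem_self)) (inv_mem (hDN d))
    exact mem_cent.1 ((Subgroup.mem_normalizer_iff.1 hn _).1 (mem_cent.2 (Commute.refl _)))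
  -- these conjugates, times central elements, cover everything outside the centre
  let f : D × center H → {y : H // y ∉ center H} := fun p =>
    ⟨⟨(p.1 : G) * x * (p.1 : G)⁻¹, conj_mem (hDN p.1) x.2⟩ * p.2.1, fun hm => hx (by
      have hm' := (Subgroup.mul_mem_cancel_right _ p.2.2).1 hm
      refine mem_center_iff.2 fun y => Subtype.ext ?_
      have h1 := congrArg Subtype.val
        (mem_center_iff.1 hm' ⟨(p.1 : G) * y * (p.1 : G)⁻¹, conj_mem (hDN p.1) y.2⟩)
      have h2' := congrArg (fun g => (p.1 : G)⁻¹ * g * p.1) h1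
      simpa [mul_assoc] using h2')⟩
  have hf : Function.Injective f := by
    rintro ⟨d, c⟩ ⟨e, c'⟩ h
    have h' : (d : G) * x * (d : G)⁻¹ * (c.1 : G) = (e : G) * x * (e : G)⁻¹ * (c'.1 : G) :=
      congrArg (fun y : {y : H // y ∉ center H} => ((y.1 : H) : G)) h
    have hcc : ∀ (d : D) (c : center H),
        ((d : G) * x * (d : G)⁻¹ * (c.1 : G)) * ((d : G) * x * (d : G)⁻¹ * (c.1 : G)) =
          (d : G) * (x * x) * (d : G)⁻¹ := by
      intro d c
      have hc2 : (c.1 : G) * c.1 = 1 := congrArg Subtype.val (hcen ▸ c.2 : c.1 ∈ Z₁)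
      have hcm : Commute ((d : G) * x * (d : G)⁻¹) (c.1 : G) :=
        congrArg Subtype.val (mem_center_iff.1 c.2 ⟨_, conj_mem (hDN d) x.2⟩)
      rw [hcm.symm.mul_mul_mul_comm, hc2, mul_one]
      group
    have hde : d = e := by
      have h3 : (d : G) * (x * x) * (d : G)⁻¹ = (e : G) * (x * x) * (e : G)⁻¹ :=
        (hcc d c).symm.trans ((congrArg (fun g => g * g) h').trans (hcc e c'))
      -- the square of `x` is an involution
      have hxx : orderOf ((x : G) * x) = 2 := invol_iff.2 ⟨(hsq x x.2).1, hx2⟩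
      have hcom : Commute ((x : G) * x) ((e : G)⁻¹ * d) := by
        show (x : G) * x * ((e : G)⁻¹ * d) = (e : G)⁻¹ * d * (x * x)
        symm
        calc (e : G)⁻¹ * d * (x * x) = (e : G)⁻¹ * ((d : G) * (x * x) * (d : G)⁻¹) * d := by group
          _ = (x : G) * x * ((e : G)⁻¹ * d) := by rw [h3]; group
      have hA : (e : G)⁻¹ * d ∈ centralizer ({t} : Set G) := by
        rw [← hs.centralizer_invol (le_normalizer (mul_mem x.2 x.2)) hxx]
        exact mem_cent.2 hcom
      exact Subtype.ext (inv_mul_eq_one.1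
        (hs.free hA hz (mul_mem (inv_mem e.2) d.2 : (e : G)⁻¹ * d ∈ D).2)).symm
    subst hde
    exact Prod.ext rfl (Subtype.ext (Subtype.ext (mul_left_cancel h')))
  have hcardf : Nat.card {y : H // y ∉ center H} = Nat.card (D × center H) := by
    have h1 := Nat.card_congr (Equiv.sumCompl fun y : H => y ∈ center H)
    rw [Nat.card_sum] at h1
    have h1' : Nat.card (center H) + Nat.card {y : H // y ∉ center H} = Nat.card H := h1
    have hD' : Nat.card D + 1 = 2 ^ n := hq
    rw [hZcard, hF, ← hD'] at h1'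
    rw [Nat.card_prod, hZcard, ← hD']
    nlinarith
  have hsurj := ((Nat.bijective_iff_injective_and_card f).2 ⟨hf, hcardf.symm⟩).2
  refine hx (mem_center_iff.2 fun y => ?_)
  by_cases hy : y ∈ center H
  · exact (mem_center_iff.1 hy x).symm
  obtain ⟨⟨d, c⟩, hdc⟩ := hsurj ⟨y, hy⟩
  refine Subtype.ext ?_
  have hy' : (y : G) = (d : G) * x * (d : G)⁻¹ * (c.1 : G) :=
    congrArg (fun y : {y : H // y ∉ center H} => ((y.1 : H) : G)) hdc.symm
  show (y : G) * x = x * y
  rw [hy']
  exact ((hcommd d).mul_right (congrArg Subtype.val (mem_center_iff.1 c.2 x))).eq.symm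

end Setup

/-- A non-solvable group with TI centralisers has elementary abelian involution centralisers. -/
theorem exists_elemAbCent (h : CTI G) (hns : ¬ Group.IsSolvable G) :
    ∃ T : Sylow 2 G, ElemAbCent T := by
  classical
  haveI : Fact (Nat.Prime 2) := ⟨Nat.prime_two⟩
  obtain ⟨P⟩ : Nonempty (Sylow 2 G) := inferInstance
  have hPne : (P : Subgroup G) ≠ ⊥ := by
    refine P.ne_bot_of_dvd_card (even_iff_two_dvd.1 ?_)
    exact (Nat.even_or_odd _).resolve_right fun ho => hns (FT.isSolvable_of_odd ho)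
  haveI : Nontrivial (P : Subgroup G) := (nontrivial_iff_ne_bot _).2 hPne
  haveI := P.isPGroup'.center_nontrivial
  obtain ⟨w, hw⟩ : ∃ w : center (P : Subgroup G), orderOf w = 2 := by
    refine exists_prime_orderOf_dvd_card' 2 ?_
    obtain ⟨j, hj⟩ := IsPGroup.iff_card.1 (P.isPGroup'.to_subgroup (center (P : Subgroup G)))
    rw [hj]
    refine dvd_pow_self 2 fun h0 => ?_
    rw [h0, pow_zero] at hj
    exact (Finite.one_lt_card_iff_nontrivial.2 ‹_›).ne' hj
  set t : G := ((w : (P : Subgroup G)) : G)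
  have hP : (P : Subgroup G) ≤ centralizer ({t} : Set G) := fun q hq =>
    mem_cent.2 (congrArg Subtype.val (mem_center_iff.1 w.2 ⟨q, hq⟩)).symm
  have hs : Setup t := ⟨h, hns, by rw [Subgroup.orderOf_coe, Subgroup.orderOf_coe, hw], P, hP⟩
  have hH : IsPGroup 2 (centralizer ({t} : Set G)) := fun a =>
    ⟨1, Subtype.ext (show ((a ^ 2 ^ 1 : centralizer ({t} : Set G)) : G) = 1 by
      rw [pow_one, pow_two]; exact hs.exponent_two a a.2)⟩
  have heq := P.is_maximal' hH hP
  refine ⟨P, ⟨fun hc => ?_, fun hn => ?_, fun s hso => ?_⟩⟩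
  · haveI := hc
    obtain ⟨g, hg⟩ := IsCyclic.exists_generator (α := (P : Subgroup G))
    have hle : Nat.card (P : Subgroup G) ≤ 2 := by
      rw [← orderOf_eq_card_of_forall_mem_zpowers hg]
      exact Nat.le_of_dvd two_pos (orderOf_dvd_of_pow_eq_one (Subtype.ext
        (by show (g : G) ^ 2 = 1; rw [pow_two]; exact hs.exponent_two g (hP g.2))))
    have h2 := hs.two_le_invol
    let f : {s : G // orderOf s = 2 ∧ s ∈ N₀ t} → {a : (P : Subgroup G) // a ≠ 1} := fun s =>
      ⟨⟨s, heq ▸ hs.invol_mem s.2.2 s.2.1⟩, fun e => by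
        have h3 := s.2.1
        rw [show (s : G) = 1 from congrArg Subtype.val e, orderOf_one] at h3
        omega⟩
    have h3 := Nat.card_le_card_of_injective f fun a b e => Subtype.ext
      (congrArg (fun a : {a : (P : Subgroup G) // a ≠ 1} => (a.1 : G)) e)
    haveI := Fintype.ofFinite (P : Subgroup G)
    rw [Nat.card_eq_fintype_card (α := {a : (P : Subgroup G) // a ≠ 1}), Fintype.card_subtype_compl,
      Fintype.card_subtype_eq, ← Nat.card_eq_fintype_card] at h3
    omega
  · rw [← heq] at hn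
    exact hs.N₀_ne_top (normalizer_eq_top_iff.2 hn)
  · obtain ⟨S, hS⟩ := (IsPGroup.of_card (G := zpowers s) (n := 1)
      (by rw [Nat.card_zpowers, hso, pow_one])).exists_le_sylow
    obtain ⟨g, hg⟩ := MulAction.exists_smul_eq G P S
    have hsS : s ∈ (S : Subgroup G) := hS (mem_zpowers s)
    rw [← hg, Sylow.coe_subgroup_smul, mem_pointwise_smul_iff_inv_smul_mem, MulAut.smul_def,
      ← map_inv, MulAut.conj_apply, inv_inv] at hsS
    have hso' : orderOf (g⁻¹ * s * g) = 2 := by
      have := conj_invol g⁻¹ hso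
      rwa [inv_inv] at this
    have hcs := hs.centralizer_invol (le_normalizer (hP hsS)) hso'
    have hsq : ∀ c ∈ centralizer ({s} : Set G), c * c = 1 := by
      intro c hc
      have hm : g⁻¹ * c * g ∈ centralizer ({t} : Set G) := by
        rw [← hcs, mem_cent]
        simpa using (mem_cent.1 hc).map (MulAut.conj g⁻¹)
      have := congrArg (fun y => g * y * g⁻¹) (hs.exponent_two _ hm)
      simpa [mul_assoc] using this
    refine ⟨⟨⟨fun a b => Subtype.ext ?_⟩⟩, fun c hc => by rw [pow_two]; exact hsq c hc⟩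
    have ha := inv_eq_of_mul_eq_one_right (hsq a a.2)
    have hb := inv_eq_of_mul_eq_one_right (hsq b b.2)
    have hab := inv_eq_of_mul_eq_one_right (hsq _ (mul_mem a.2 b.2))
    rw [mul_inv_rev, ha, hb] at hab
    exact hab.symm

end CfsgLib.Involutions.TICent
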